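import Groth.Agent.QC.FTIdeal
import Groth.Agent.TopQC.Colim
import Groth.Agent.SiteCoh.Terminal
import Mathlib.AlgebraicGeometry.Properties
/-!
Quasi-coherent modules are directed unions of finite type ones; cohomology vanishing passes to the union.
-/

set_option autoImplicit false
set_option linter.style.haveILetI false
set_option backward.isDefEq.respectTransparency false

universe u

open CategoryTheory CategoryTheory.Limits AlgebraicGeometry TopologicalSpace Opposite
open Groth.Agent.TopPullModel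

noncomputable section

namespace Groth.Agent.W7FTH

open QC

variable {X : Scheme.{u}} {F : X.Modules}

/-- The sum of two subsheaves. -/
def supSub (S T : Sub F) : Sub F where
  obj O :=
    { carrier := {s | ∀ x ∈ O, ∃ (W : X.Opens) (h : W ≤ O), x ∈ W ∧ res F h s ∈ S.obj W ⊔ T.obj W}
      zero_mem' := fun x hx ↦ ⟨O, le_rfl, hx, by simp⟩
      add_mem' := fun {a b} ha hb x hx ↦ by
        obtain ⟨W, h, hxW, ha⟩ := ha x hx
        obtain ⟨V, g, hxV, hb⟩ := hb x hx
        refine ⟨W ⊓ V, inf_le_left.trans h, ⟨hxW, hxV⟩, ?_⟩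
        have key : ∀ (A : X.Opens) (hA : W ⊓ V ≤ A) (c : Γ(F, A)), c ∈ S.obj A ⊔ T.obj A →
            res F hA c ∈ S.obj (W ⊓ V) ⊔ T.obj (W ⊓ V) := fun A hA c hc ↦ by
          obtain ⟨p, hp, q, hq, rfl⟩ := Submodule.mem_sup.mp hc
          rw [map_add]
          exact Submodule.add_mem_sup (S.res_mem _ hp) (T.res_mem _ hq)
        have ha' := key W inf_le_left _ ha
        have hb' := key V inf_le_right _ hb
        rw [res_res] at ha' hb'
        rw [map_add]
        exact Submodule.add_mem _ ha' hb'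
      smul_mem' := fun c a ha x hx ↦ by
        obtain ⟨W, h, hxW, ha⟩ := ha x hx
        exact ⟨W, h, hxW, by rw [res_smul]; exact Submodule.smul_mem _ _ ha⟩ }
  res_mem := fun {O' O} hO {s} hs x hx ↦ by
    obtain ⟨W, h, hxW, hs⟩ := hs x (hO hx)
    obtain ⟨p, hp, q, hq, hpq⟩ := Submodule.mem_sup.mp hs
    refine ⟨W ⊓ O', inf_le_right, ⟨hxW, hx⟩, ?_⟩
    rw [res_res, ← res_res F (inf_le_left : W ⊓ O' ≤ W) h, ← hpq, map_add]
    exact Submodule.add_mem_sup (S.res_mem _ hp) (T.res_mem _ hq)
  local' := fun {O} s hs x hx ↦ by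
    obtain ⟨W, h, hxW, hs⟩ := hs x hx
    obtain ⟨W', g, hxW', hs'⟩ := hs x hxW
    rw [res_res] at hs'
    exact ⟨W', g.trans h, hxW', hs'⟩

lemma le_supSub_left (S T : Sub F) (O : X.Opens) : S.obj O ≤ (supSub S T).obj O := fun s hs x hx ↦
  ⟨O, le_rfl, hx, Submodule.mem_sup_left (by rw [res_self]; exact hs)⟩

lemma le_supSub_right (S T : Sub F) (O : X.Opens) : T.obj O ≤ (supSub S T).obj O := fun s hs x hx ↦
  ⟨O, le_rfl, hx, Submodule.mem_sup_right (by rw [res_self]; exact hs)⟩

lemma locFinGen_supSub {S T : Sub F} (hS : LocFinGen S ⊤) (hT : LocFinGen T ⊤) :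
    LocFinGen (supSub S T) ⊤ := by
  classical
  intro x _
  obtain ⟨D₁, -, hx₁, -, A, hA⟩ := hS x trivial
  obtain ⟨D₂, -, hx₂, -, B, hB⟩ := hT x trivial
  obtain ⟨D, hD, hxD, hle⟩ := exists_isAffineOpen_mem_and_subset (x := x) (U := D₁ ⊓ D₂) ⟨hx₁, hx₂⟩
  have h₁ : D ≤ D₁ := fun y hy ↦ (hle hy).1
  have h₂ : D ≤ D₂ := fun y hy ↦ (hle hy).2
  refine ⟨D, hD, hxD, le_top, A.image (res F h₁) ∪ B.image (res F h₂), ?_, ?_⟩
  · intro t ht
    rcases Finset.mem_union.mp (Finset.mem_coe.mp ht) with h | h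
    · obtain ⟨a, ha, rfl⟩ := Finset.mem_image.mp h
      exact le_supSub_left S T D (S.res_mem h₁ (hA.mem a ha))
    · obtain ⟨a, ha, rfl⟩ := Finset.mem_image.mp h
      exact le_supSub_right S T D (T.res_mem h₂ (hB.mem a ha))
  · intro O hO s hs
    refine (genSub _).local' s fun y hy ↦ ?_
    obtain ⟨W, h, hyW, hs⟩ := hs y hy
    obtain ⟨p, hp, q, hq, hpq⟩ := Submodule.mem_sup.mp hs
    refine ⟨W, h, hyW, ?_⟩
    rw [← hpq]
    have hmono : ∀ (U V : Set Γ(F, D)), U ⊆ V → (genSub U).obj W ≤ (genSub V).obj W := fun U V hUV s hs z hz hzD ↦ by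
      obtain ⟨W', g, g', hzW, hs⟩ := hs z hz hzD
      exact ⟨W', g, g', hzW, Submodule.span_mono (Set.image_mono hUV) hs⟩
    refine Submodule.add_mem _ (hmono _ _ ?_ ((hA.mono h₁).le W (h.trans hO) hp))
      (hmono _ _ ?_ ((hB.mono h₂).le W (h.trans hO) hq))
    · rw [← Finset.coe_image]
      exact_mod_cast Finset.subset_union_left
    · rw [← Finset.coe_image]
      exact_mod_cast Finset.subset_union_right

variable (F)

/-- Locally finitely generated subsheaves. -/
def FGSub : Type u := {S : Sub F // LocFinGen S ⊤}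

instance : Preorder (FGSub F) where
  le S T := ∀ O, S.1.obj O ≤ T.1.obj O
  le_refl _ _ := le_rfl
  le_trans _ _ _ h h' O := (h O).trans (h' O)

instance : IsDirected (FGSub F) (· ≤ ·) :=
  ⟨fun S T ↦ ⟨⟨supSub S.1 T.1, locFinGen_supSub S.2 T.2⟩, le_supSub_left S.1 T.1, le_supSub_right S.1 T.1⟩⟩

variable {F}

/-- The inclusion of nested subsheaves. -/
def incl {S T : Sub F} (h : ∀ O, S.obj O ≤ T.obj O) : S.toModules ⟶ T.toModules :=
  (exists_lift_of_range T.ι S.ι fun O a ↦ (T.range_ι_app O _).mpr (h O ((S.range_ι_app O _).mp ⟨a, rfl⟩))).choose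

@[reassoc (attr := simp)]
lemma incl_ι {S T : Sub F} (h : ∀ O, S.obj O ≤ T.obj O) : incl h ≫ T.ι = S.ι :=
  (exists_lift_of_range T.ι S.ι fun O a ↦ (T.range_ι_app O _).mpr (h O ((S.range_ι_app O _).mp ⟨a, rfl⟩))).choose_spec

variable (F)

/-- The system of finite type subsheaves. -/
def system : FGSub F ⥤ X.Modules where
  obj S := S.1.toModules
  map f := incl (leOfHom f)
  map_id S := (cancel_mono S.1.ι).mp (by rw [incl_ι, Category.id_comp])
  map_comp {S T U} f g := (cancel_mono U.1.ι).mp (by rw [Category.assoc, incl_ι, incl_ι, incl_ι])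

/-- The cocone of the system of finite type subsheaves. -/
def cocone : Cocone (system F ⋙ SheafOfModules.toSheaf X.ringCatSheaf) where
  pt := Coh.toAb F
  ι :=
    { app := fun S ↦ (SheafOfModules.toSheaf X.ringCatSheaf).map S.1.ι
      naturality := fun S T f ↦ by
        show (SheafOfModules.toSheaf X.ringCatSheaf).map (incl (leOfHom f)) ≫ _ = _ ≫ 𝟙 _
        rw [← Functor.map_comp, incl_ι]
        exact (Category.comp_id _).symm }

variable [CompactSpace X] [QuasiSeparatedSpace X] [hF : F.IsQuasicoherent]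

instance : Nonempty (FGSub F) := by
  obtain ⟨S, hS, -⟩ := exists_extend_qcqs (F := F) (topSub F) (W := (⊥ : X.Opens))
    (fun x hx ↦ hx.elim) (by simp)
  exact ⟨⟨S, hS⟩⟩

/-- A quasi-coherent module is the union of its finite type submodules. -/
def isColimitCocone : IsColimit (cocone F) := by
  refine @IsColimit.ofPointIso _ _ _ _ _ _ _ (colimit.isColimit _) ?_
  let G := system F ⋙ SheafOfModules.toSheaf X.ringCatSheaf
  let θ : colimit G ⟶ Coh.toAb F := (colimit.isColimit G).desc (cocone F)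
  show IsIso θ
  have hθ : ∀ S : FGSub F, (colimit.cocone G).ι.app S ≫ θ = (cocone F).ι.app S := fun S ↦
    (colimit.isColimit G).fac _ S
  haveI : ∀ x, IsIso ((TopCat.Presheaf.stalkFunctor AddCommGrpCat.{u} x).map θ.hom) := fun x ↦ by
    rw [ConcreteCategory.isIso_iff_bijective]
    constructor
    · refine (injective_iff_map_eq_zero _).mpr fun a ha ↦ ?_
      obtain ⟨S, b, rfl⟩ := TopQC.exists_stalk_rep (colimit.isColimit G) x a
      have h1 : stMap ((cocone F).ι.app S) x b = 0 := by
        rw [← hθ S]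
        refine Eq.trans ?_ ha
        exact ConcreteCategory.congr_hom ((TopCat.Presheaf.stalkFunctor AddCommGrpCat.{u} x).map_comp
          ((colimit.cocone G).ι.app S).hom θ.hom) b
      have hinj : Function.Injective (stMap ((cocone F).ι.app S) x) :=
        TopCat.Presheaf.stalkFunctor_map_injective_of_app_injective (fun W ↦ S.1.ι_app_injective W) x
      rw [hinj (h1.trans (map_zero _).symm), map_zero]
    · intro a
      obtain ⟨O, hx, s, rfl⟩ := exists_gm_eq (Coh.toAb F) a
      obtain ⟨D, hD, hxD, hDO⟩ := exists_isAffineOpen_mem_and_subset (x := x) (U := (O : X.Opens)) hx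
      let t : Γ(F, D) := res F hDO s
      have hgen : LocFinGen (genSub ({t} : Set Γ(F, D))) D := fun y hy ↦
        ⟨D, hD, hy, le_rfl, {t}, by
          rw [Finset.coe_singleton]
          exact ⟨fun u hu ↦ mem_genSub_of_mem hu, fun _ _ ↦ le_rfl⟩⟩
      obtain ⟨S, hS, hSD⟩ := exists_extend_qcqs _ hgen hD.isCompact
      obtain ⟨b, hb⟩ := (S.range_ι_app D t).mpr (by rw [hSD D le_rfl]; exact mem_genSub_of_mem rfl)
      let S' : FGSub F := ⟨S, hS⟩
      refine ⟨stMap ((colimit.cocone G).ι.app S') x (gm (G.obj S') D x hxD b), ?_⟩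
      refine Eq.trans ?_ (gm_res (Coh.toAb F) hDO x hxD s)
      refine Eq.trans (ConcreteCategory.congr_hom ((TopCat.Presheaf.stalkFunctor AddCommGrpCat.{u} x).map_comp
          ((colimit.cocone G).ι.app S').hom θ.hom) _).symm ?_
      show stMap ((colimit.cocone G).ι.app S' ≫ θ) x (gm (G.obj S') D x hxD b) = _
      rw [hθ, stMap_gm]
      exact congrArg (gm (Coh.toAb F) D x hxD) hb
  exact TopCat.Presheaf.isIso_of_stalkFunctor_map_iso θ

/-- If all finite type quasi-coherent submodules have vanishing cohomology in a degree, so does the module. -/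
theorem subsingleton_hh (q : ℕ)
    (h : ∀ S : FGSub F, Subsingleton (Coh.HH X S.1.toModules q)) : Subsingleton (Coh.HH X F q) := by
  let G := system F ⋙ SheafOfModules.toSheaf X.ringCatSheaf
  let E := (Sheaf.cohomologyPresheafFunctor (Opens.grothendieckTopology X) q).flip.obj (op (⊤ : X.Opens))
  haveI : PrespectralSpace X.toTopCat := inferInstanceAs (PrespectralSpace ↥X)
  haveI : QuasiSeparatedSpace X.toTopCat := inferInstanceAs (QuasiSeparatedSpace ↥X)
  haveI : CompactSpace X.toTopCat := inferInstanceAs (CompactSpace ↥X)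
  haveI : PreservesColimitsOfShape (FGSub F) E := TopQC.preservesColimitsOfShape_HU (X := X.toTopCat) (ι := FGSub F) ⊤ isCompact_univ q
  have hc := isColimitOfPreserves E (isColimitCocone F)
  have hz : ∀ z : CohSite.HU (Coh.toAb F) q (⊤ : X.Opens), z = 0 := fun z ↦ by
    obtain ⟨S, w, hw⟩ := Concrete.isColimit_exists_rep (G ⋙ E) hc z
    haveI := h S
    haveI : Subsingleton (CohSite.HU (Coh.toAb S.1.toModules) q (⊤ : X.Opens)) :=
      (SiteCoh.huTerminalEquiv (Opens.grothendieckTopology X) isTerminalTop (Coh.toAb S.1.toModules) q).toEquiv.symm.subsingleton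
    rw [← hw]
    exact (congrArg _ (Subsingleton.elim (α := CohSite.HU (Coh.toAb S.1.toModules) q (⊤ : X.Opens)) w 0)).trans (map_zero _)
  haveI : Subsingleton (CohSite.HU (Coh.toAb F) q (⊤ : X.Opens)) := subsingleton_of_forall_eq 0 hz
  exact (SiteCoh.huTerminalEquiv (Opens.grothendieckTopology X) isTerminalTop (Coh.toAb F) q).toEquiv.subsingleton

end Groth.Agent.W7FTH
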